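import Mathlib
import Groth.Prelude.Def_CAlgX
import Groth.Agent.H94.RegDescentH1
import Groth.Agent.H19.QuasiRegReg

/-!
# Dividing an `H_1`-regular / quasi-regular sequence by its first element
-/

set_option autoImplicit false
set_option linter.style.haveILetI false
universe u

namespace Groth.Agent.H47.RegSmooth

open Groth.Agent.H94.RegDescent Groth.Agent.H11.H1Reg Groth.Agent.H19.QReg

/-- Stability of a kind of sequences under dividing by the first element. -/
structure QuotOK (P : ∀ (R : Type u) [CommRing R], List R → Prop) : Prop where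
  quot : ∀ {R : Type u} [CommRing R] (t : R) (l : List R), P R (t :: l) →
    P (R ⧸ Ideal.span {t}) (l.map (Ideal.Quotient.mk (Ideal.span {t})))

section h1

variable {R : Type u} [CommRing R]

/-- forget the `0`-th coordinate and reduce mod `I` -/
def dropMk (I : Ideal R) (c : ℕ) : (Fin (c + 1) → R) →ₗ[R] (Fin c → R ⧸ I) where
  toFun v i := Ideal.Quotient.mk I (v i.succ)
  map_add' v w := by funext i; simp
  map_smul' r v := by
    funext i
    simp [Algebra.smul_def]

theorem dropMk_apply (I : Ideal R) (c : ℕ) (v : Fin (c + 1) → R) (i : Fin c) :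
    dropMk I c v i = Ideal.Quotient.mk I (v i.succ) := rfl

theorem dropMk_single_zero (I : Ideal R) (c : ℕ) (x : R) :
    dropMk I c (Pi.single 0 x) = 0 := by
  funext i
  rw [dropMk_apply, Pi.single_eq_of_ne (Fin.succ_ne_zero i)]
  simp

theorem dropMk_single_succ (I : Ideal R) (c : ℕ) (j : Fin c) (x : R) :
    dropMk I c (Pi.single j.succ x) = Pi.single j (Ideal.Quotient.mk I x) := by
  classical
  funext i
  rw [dropMk_apply]
  by_cases h : i = j
  · subst h; simp
  · rw [Pi.single_eq_of_ne h, Pi.single_eq_of_ne (fun h' => h (Fin.succ_injective _ h'))]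
    simp

theorem h1_quot_fin {c : ℕ} (f : Fin (c + 1) → R) (hf : CAlgX.IsH1Regular f) :
    CAlgX.IsH1Regular (fun i : Fin c => Ideal.Quotient.mk (Ideal.span {f 0}) (f i.succ)) := by
  classical
  intro b hb
  have hsurj := Ideal.Quotient.mk_surjective (I := Ideal.span {f 0})
  choose b' hb' using fun i => hsurj (b i)
  have h1 : ∑ i, b' i * f i.succ ∈ Ideal.span {f 0} := by
    rw [← Ideal.Quotient.eq_zero_iff_mem, map_sum]
    simp only [map_mul, hb']
    exact hb
  obtain ⟨c0, hc0⟩ := Ideal.mem_span_singleton'.mp h1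
  let a : Fin (c + 1) → R := Fin.cons (-c0) b'
  have ha : ∑ i, a i * f i = 0 := by
    rw [Fin.sum_univ_succ]
    simp only [a, Fin.cons_zero, Fin.cons_succ]
    rw [← hc0]; ring
  have haT : a ∈ T f := hf a ha
  have hΦ : T f ≤ ((T (fun i : Fin c => Ideal.Quotient.mk (Ideal.span {f 0}) (f i.succ))).restrictScalars
      R).comap (dropMk (Ideal.span {f 0}) c) := by
    have hmk0 : Ideal.Quotient.mk (Ideal.span {f 0}) (f 0) = 0 :=
      Ideal.Quotient.eq_zero_iff_mem.mpr (Ideal.mem_span_singleton_self _)
    rw [T, Submodule.span_le]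
    rintro v ⟨i, j, rfl⟩
    rw [SetLike.mem_coe, Submodule.mem_comap, Submodule.restrictScalars_mem, map_sub]
    induction i using Fin.cases with
    | zero =>
      induction j using Fin.cases with
      | zero => rw [sub_self]; exact Submodule.zero_mem _
      | succ j =>
        rw [dropMk_single_zero, dropMk_single_succ, hmk0, Pi.single_zero, sub_zero]
        exact Submodule.zero_mem _
    | succ i =>
      induction j using Fin.cases with
      | zero =>
        rw [dropMk_single_zero, dropMk_single_succ, hmk0, Pi.single_zero, sub_zero]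
        exact Submodule.zero_mem _
      | succ j =>
        rw [dropMk_single_succ, dropMk_single_succ]
        exact triv_mem_T _ i j
  have h2 := hΦ haT
  rw [Submodule.mem_comap, Submodule.restrictScalars_mem] at h2
  have h3 : dropMk (Ideal.span {f 0}) c a = b := by
    funext i
    rw [dropMk_apply]
    simp only [a, Fin.cons_succ]
    exact hb' i
  rw [h3] at h2
  exact h2

theorem h1_quot (t : R) (l : List R) (h : CAlgX.IsH1Regular (t :: l).get) :
    CAlgX.IsH1Regular (l.map (Ideal.Quotient.mk (Ideal.span {t}))).get := by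
  rw [h1_get_map_iff]
  exact h1_quot_fin (t :: l).get h

theorem quotOK_h1 : QuotOK.{u} (fun _ _ l => CAlgX.IsH1Regular l.get) where
  quot t l h := h1_quot t l h

end h1

section quasi

variable {R : Type u} [CommRing R]

theorem quasi_quot_fin {c : ℕ} (f : Fin (c + 1) → R) (hf : CAlgX.IsQuasiRegular f) :
    CAlgX.IsQuasiRegular
      (fun i : Fin c => Ideal.Quotient.mk (Ideal.span {f 0}) (f i.succ)) := by
  have h1 : QR (f ∘ (finSuccEquiv c).symm) := qr_comp_equiv f hf (finSuccEquiv c).symm
  have h2 := qr_quotFam _ h1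
  exact h2

theorem quasi_quot (t : R) (l : List R) (h : CAlgX.IsQuasiRegular (t :: l).get) :
    CAlgX.IsQuasiRegular (l.map (Ideal.Quotient.mk (Ideal.span {t}))).get := by
  rw [quasi_get_map_iff]
  exact quasi_quot_fin (t :: l).get h

theorem quotOK_quasi : QuotOK.{u} (fun _ _ l => CAlgX.IsQuasiRegular l.get) where
  quot t l h := quasi_quot t l h

end quasi


section iterate

variable {P : ∀ (R : Type u) [CommRing R], List R → Prop}

/-- Dividing a `P`-sequence `ts ++ gs` by the ideal generated by `ts`. -/
theorem quot_list (hP : DescOK P) (hQ : QuotOK P) (n : ℕ) :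
    ∀ {R R' : Type u} [CommRing R] [CommRing R'] (ts : List R), ts.length = n →
      ∀ (ψ : R →+* R'), Function.Surjective ψ → RingHom.ker ψ = Ideal.ofList ts →
        ∀ gs : List R, P R (ts ++ gs) → P R' (gs.map ψ) := by
  induction n with
  | zero =>
    intro R R' _ _ ts hts ψ hψ hker gs h
    have hnil : ts = [] := List.eq_nil_of_length_eq_zero hts
    subst hnil
    rw [Ideal.ofList_nil] at hker
    have hinj : Function.Injective ψ := (RingHom.injective_iff_ker_eq_bot ψ).mpr hker
    exact hP.flat ψ (RingHom.Flat.of_bijective ⟨hinj, hψ⟩) gs h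
  | succ n ih =>
    intro R R' _ _ ts hts ψ hψ hker gs h
    obtain ⟨t, ts', rfl⟩ : ∃ t ts', ts = t :: ts' := by
      cases ts with
      | nil => simp at hts
      | cons t ts' => exact ⟨t, ts', rfl⟩
    have htker : t ∈ RingHom.ker ψ := by
      rw [hker, Ideal.ofList_cons]
      exact Ideal.mem_sup_left (Ideal.mem_span_singleton_self t)
    have hle : Ideal.span {t} ≤ RingHom.ker ψ := by
      rw [Ideal.span_le, Set.singleton_subset_iff]
      exact htker
    let ψ₁ : R ⧸ Ideal.span {t} →+* R' := Ideal.Quotient.lift (Ideal.span {t}) ψ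
      (fun a ha => hle ha)
    have hψ₁ : Function.Surjective ψ₁ := Ideal.Quotient.lift_surjective_of_surjective _ _ hψ
    have hmk0 : Ideal.Quotient.mk (Ideal.span {t}) t = 0 :=
      Ideal.Quotient.eq_zero_iff_mem.mpr (Ideal.mem_span_singleton_self _)
    have hker₁ : RingHom.ker ψ₁ = Ideal.ofList (ts'.map (Ideal.Quotient.mk (Ideal.span {t}))) := by
      rw [Ideal.ker_quotient_lift, hker, Ideal.map_ofList, List.map_cons, Ideal.ofList_cons, hmk0]
      simp
    have h1 := hQ.quot t (ts' ++ gs) h
    rw [List.map_append] at h1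
    have h2 := ih (ts'.map (Ideal.Quotient.mk (Ideal.span {t})))
      (by rw [List.length_map]; simpa using hts) ψ₁ hψ₁ hker₁ _ h1
    rw [List.map_map] at h2
    exact h2

end iterate

end Groth.Agent.H47.RegSmooth
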