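import Mathlib
import Groth.Agent.H39.RelRegAlg

/-!
# An exchange lemma for generators of the kernel of `ε : P → D`, using derivations

If `t_1,…,t_n ∈ ker ε` admit derivations `δ_i` of `P` with `ε (δ_i t_j) = δ_{ij}`, then in any
list of elements of `ker ε` generating `ker ε` near a prime, `n` of the elements may be traded
for the `t_i`.
-/

set_option autoImplicit false
set_option linter.style.haveILetI false

namespace Groth.Agent.H47.RegSmooth

open Groth.Agent.H39.RelRegAlg

section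

variable {A P D : Type*} [CommRing A] [CommRing P] [CommRing D] [Algebra A P]

/-- The ideal of elements killed by `ε` together with their `δ`-derivative. -/
def derKer (ε : P →+* D) (δ : Derivation A P P) : Ideal P where
  carrier := {y | ε y = 0 ∧ ε (δ y) = 0}
  add_mem' := by
    rintro a b ⟨ha, ha'⟩ ⟨hb, hb'⟩
    exact ⟨by rw [map_add, ha, hb, add_zero], by rw [map_add, map_add, ha', hb', add_zero]⟩
  zero_mem' := ⟨map_zero _, by rw [map_zero, map_zero]⟩
  smul_mem' := by
    rintro c y ⟨hy, hy'⟩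
    refine ⟨by rw [smul_eq_mul, map_mul, hy, mul_zero], ?_⟩
    rw [smul_eq_mul, Derivation.leibniz, map_add, smul_eq_mul, smul_eq_mul, map_mul, map_mul,
      hy, hy', mul_zero, zero_mul, add_zero]

theorem mem_derKer (ε : P →+* D) (δ : Derivation A P P) (y : P) :
    y ∈ derKer ε δ ↔ ε y = 0 ∧ ε (δ y) = 0 := Iff.rfl

/-- `ε ∘ δ` of a combination of elements of `ker ε`. -/
theorem eps_der_sum (ε : P →+* D) (δ : Derivation A P P) {m : ℕ} (c f : Fin m → P)
    (hf : ∀ k, ε (f k) = 0) :
    ε (δ (∑ k, c k * f k)) = ∑ k, ε (c k) * ε (δ (f k)) := by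
  rw [map_sum, map_sum]
  apply Finset.sum_congr rfl
  intro k _
  rw [Derivation.leibniz, map_add, smul_eq_mul, smul_eq_mul, map_mul, map_mul, hf k, zero_mul,
    add_zero]

theorem exch_step (ε : P →+* D) (𝔡 : Ideal D) [𝔡.IsPrime] (δ : Derivation A P P)
    (u f : List P) (t w : P)
    (hu : ∀ x ∈ u, ε x = 0 ∧ ε (δ x) = 0) (hf : ∀ x ∈ f, ε x = 0)
    (ht : ε t = 0) (hδt : ε (δ t) = 1) (hw : ε w ∉ 𝔡)
    (hwt : w * t ∈ Ideal.ofList (u ++ f)) :
    ∃ (k : ℕ) (_ : k < f.length) (c : P), ε c ∉ 𝔡 ∧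
      ∀ y ∈ Ideal.ofList (u ++ f), c * y ∈ Ideal.ofList (u ++ t :: f.eraseIdx k) := by
  classical
  rw [Ideal.ofList_append] at hwt
  obtain ⟨y, hy, z, hz, hyz⟩ := Submodule.mem_sup.mp hwt
  have hyK : y ∈ derKer ε δ := by
    have hle : Ideal.ofList u ≤ derKer ε δ := by
      rw [Ideal.ofList, Ideal.span_le]
      intro x hx
      exact hu x hx
    exact hle hy
  rw [← span_range_get] at hz
  obtain ⟨c, hc⟩ := (Submodule.mem_span_range_iff_exists_fun P).mp hz
  simp only [smul_eq_mul] at hc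
  have hfk : ∀ k : Fin f.length, ε (f.get k) = 0 := fun k => hf _ (List.get_mem f k)
  have h1 : ε (δ (w * t)) = ε w := by
    rw [Derivation.leibniz, map_add, smul_eq_mul, smul_eq_mul, map_mul, map_mul, ht, hδt,
      mul_one, zero_mul, add_zero]
  have h2 : ε (δ (w * t)) = ∑ k, ε (c k) * ε (δ (f.get k)) := by
    rw [← hyz, map_add, map_add, ((mem_derKer ε δ y).mp hyK).2, zero_add, ← hc,
      eps_der_sum ε δ c f.get hfk]
  have h3 : ∃ k : Fin f.length, ε (c k) ∉ 𝔡 := by
    by_contra hcon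
    push Not at hcon
    apply hw
    rw [← h1, h2]
    exact Ideal.sum_mem _ fun k _ => Ideal.mul_mem_right _ _ (hcon k)
  obtain ⟨k, hk⟩ := h3
  refine ⟨k.1, k.2, c k, hk, ?_⟩
  -- the generators
  have hgen_u : ∀ x ∈ u, x ∈ Ideal.ofList (u ++ t :: f.eraseIdx k) := by
    intro x hx
    exact Ideal.subset_span (List.mem_append_left _ hx)
  have hgen_t : t ∈ Ideal.ofList (u ++ t :: f.eraseIdx k) :=
    Ideal.subset_span (List.mem_append_right _ List.mem_cons_self)
  have hgen_f : ∀ j : Fin f.length, j ≠ k → f.get j ∈ Ideal.ofList (u ++ t :: f.eraseIdx k) := by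
    intro j hj
    apply Ideal.subset_span
    apply List.mem_append_right
    apply List.mem_cons_of_mem
    rw [List.mem_eraseIdx_iff_getElem]
    exact ⟨j.1, j.2, fun h => hj (Fin.ext h), rfl⟩
  have hyu : y ∈ Ideal.ofList (u ++ t :: f.eraseIdx k) := by
    have hle : Ideal.ofList u ≤ Ideal.ofList (u ++ t :: f.eraseIdx k) := by
      rw [Ideal.ofList, Ideal.span_le]
      intro x hx
      exact hgen_u x hx
    exact hle hy
  have hck : c k * f.get k ∈ Ideal.ofList (u ++ t :: f.eraseIdx k) := by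
    have h4 : c k * f.get k = w * t - y - ∑ j ∈ Finset.univ.erase k, c j * f.get j := by
      rw [← hyz, ← hc, ← Finset.add_sum_erase _ _ (Finset.mem_univ k)]
      ring
    rw [h4]
    refine Ideal.sub_mem _ (Ideal.sub_mem _ (Ideal.mul_mem_left _ _ hgen_t) hyu) ?_
    refine Ideal.sum_mem _ fun j hj => Ideal.mul_mem_left _ _ (hgen_f j ?_)
    exact (Finset.mem_erase.mp hj).1
  intro y' hy'
  rw [Ideal.ofList] at hy'
  induction hy' using Submodule.span_induction with
  | mem x hx =>
    rcases List.mem_append.mp hx with hxu | hxf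
    · exact Ideal.mul_mem_left _ _ (hgen_u x hxu)
    · obtain ⟨j, rfl⟩ := List.mem_iff_get.mp hxf
      by_cases hj : j = k
      · rw [hj]; exact hck
      · exact Ideal.mul_mem_left _ _ (hgen_f j hj)
  | zero => rw [mul_zero]; exact Ideal.zero_mem _
  | add a b _ _ ha hb => rw [mul_add]; exact Ideal.add_mem _ ha hb
  | smul r a _ ha =>
    rw [smul_eq_mul, mul_left_comm]
    exact Ideal.mul_mem_left _ _ ha

/-- **Exchange.** -/
theorem exchange (ε : P →+* D) (𝔡 : Ideal D) [𝔡.IsPrime] (f₀ : List P)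
    (hf₀ : ∀ x ∈ f₀, ε x = 0) (w₀ : P) (hw₀ : ε w₀ ∉ 𝔡) :
    ∀ (n : ℕ) (δ : Fin n → Derivation A P P) (t : Fin n → P), (∀ i, ε (t i) = 0) →
      (∀ i j, ε (δ i (t j)) = if i = j then 1 else 0) →
      (∀ i, w₀ * t i ∈ Ideal.ofList f₀) →
      ∃ (f' : List P) (w : P), (∀ x ∈ f', ε x = 0) ∧ f'.length + n = f₀.length ∧ ε w ∉ 𝔡 ∧
        ∀ x ∈ Ideal.ofList f₀, w * x ∈ Ideal.ofList (List.ofFn t ++ f') := by
  intro n
  induction n with
  | zero =>
    intro δ t _ _ _
    refine ⟨f₀, 1, hf₀, rfl, ?_, ?_⟩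
    · rw [map_one]
      exact fun h => (Ideal.IsPrime.ne_top inferInstance) ((Ideal.eq_top_iff_one _).mpr h)
    · intro x hx
      rw [one_mul, List.ofFn_zero, List.nil_append]
      exact hx
  | succ n ih =>
    intro δ t ht hδ hwt
    obtain ⟨f', w, hf', hlen, hw, hgen⟩ := ih (fun i => δ i.castSucc) (fun i => t i.castSucc)
      (fun i => ht _) (fun i j => by
        rw [hδ]
        simp [Fin.ext_iff]) (fun i => hwt _)
    have hwt' : (w * w₀) * t (Fin.last n) ∈
        Ideal.ofList (List.ofFn (fun i => t i.castSucc) ++ f') := by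
      rw [mul_assoc]
      exact hgen _ (hwt _)
    obtain ⟨k, hk, c, hc, hstep⟩ := exch_step ε 𝔡 (δ (Fin.last n))
      (List.ofFn (fun i => t i.castSucc)) f' (t (Fin.last n)) (w * w₀) (by
        intro x hx
        obtain ⟨i, rfl⟩ := (List.mem_ofFn' _ _).mp hx
        refine ⟨ht _, ?_⟩
        rw [hδ, if_neg]
        exact fun h => (Fin.castSucc_lt_last i).ne h.symm) hf' (ht _) (by rw [hδ, if_pos rfl])
      (by
        rw [map_mul]
        exact fun h => (Ideal.IsPrime.mem_or_mem inferInstance h).elim hw hw₀) hwt'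
    refine ⟨f'.eraseIdx k, c * w, ?_, ?_, ?_, ?_⟩
    · intro x hx
      exact hf' x (List.mem_of_mem_eraseIdx hx)
    · have := List.length_eraseIdx_add_one hk
      omega
    · rw [map_mul]
      exact fun h => (Ideal.IsPrime.mem_or_mem inferInstance h).elim hc hw
    · intro x hx
      rw [mul_assoc, List.ofFn_succ', List.concat_eq_append, List.append_assoc,
        List.singleton_append]
      exact hstep _ (hgen x hx)

end

end Groth.Agent.H47.RegSmooth
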