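import Mathlib
import Groth.Agent.H94.RegDescentCore
import Groth.Agent.H39.SmoothSectionCore
import Groth.Agent.H39.RegSpread2
import Groth.Agent.H47.RegSmooth.Quot
import Groth.Agent.H47.RegSmooth.Exchange

/-!
# The local statement: `A[x] → B` étale, `B → D` with kernel a `P`-sequence, `A → D` onto
-/

set_option autoImplicit false
set_option linter.style.haveILetI false
universe u

namespace Groth.Agent.H47.RegSmooth

open Groth.Agent.H94.RegDescent Groth.Agent.H39.KoszulPres MvPolynomial

section L1

variable {P₀ B D : Type u} [CommRing P₀] [CommRing B] [CommRing D]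

/-- If `θ : P₀ → B` is formally unramified and `π ∘ θ` is onto, the kernel of `π` is generated
by the image of the kernel of `π ∘ θ` up to squares. -/
theorem ker_le_sq_sup_map (θ : P₀ →+* B) (π : B →+* D)
    (hsurj : Function.Surjective (π.comp θ)) (hunr : θ.FormallyUnramified) :
    RingHom.ker π ≤ RingHom.ker π ^ 2 ⊔ (RingHom.ker (π.comp θ)).map θ := by
  set I' := RingHom.ker π with hI'
  set Y := (RingHom.ker (π.comp θ)).map θ with hY
  letI := θ.toAlgebra
  haveI : Algebra.FormallyUnramified P₀ B := hunr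
  set J := I' ^ 2 ⊔ Y with hJ
  set N : Ideal (B ⧸ J) := I'.map (Ideal.Quotient.mk J) with hN
  have hN2 : N ^ 2 = ⊥ := by
    rw [hN, ← Ideal.map_pow, Ideal.map_eq_bot_iff_le_ker, Ideal.mk_ker]
    exact le_sup_left
  have hkerle : RingHom.ker (π.comp θ) ≤ RingHom.ker ((Ideal.Quotient.mk J).comp θ) := by
    intro p hp
    rw [RingHom.mem_ker, RingHom.comp_apply, Ideal.Quotient.eq_zero_iff_mem]
    exact (le_sup_right : Y ≤ J) (Ideal.mem_map_of_mem θ hp)
  let s : D →+* B ⧸ J := (π.comp θ).liftOfSurjective hsurj ⟨(Ideal.Quotient.mk J).comp θ, hkerle⟩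
  have hs : ∀ p, s (π (θ p)) = Ideal.Quotient.mk J (θ p) := fun p =>
    (π.comp θ).liftOfRightInverse_comp_apply _ (Function.rightInverse_surjInv hsurj)
      ⟨(Ideal.Quotient.mk J).comp θ, hkerle⟩ p
  let f₁ : B →ₐ[P₀] (B ⧸ J) := Ideal.Quotient.mkₐ _ J
  let f₂ : B →ₐ[P₀] (B ⧸ J) :=
    { s.comp π with
      commutes' := by
        intro p
        show s (π (θ p)) = Ideal.Quotient.mk J (θ p)
        exact hs p }
  have hf : (Ideal.Quotient.mkₐ P₀ N).comp f₁ = (Ideal.Quotient.mkₐ P₀ N).comp f₂ := by
    ext b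
    show Ideal.Quotient.mk N (Ideal.Quotient.mk J b) = Ideal.Quotient.mk N (s (π b))
    obtain ⟨p, hp⟩ := hsurj (π b)
    rw [RingHom.comp_apply] at hp
    rw [← hp, hs, Ideal.Quotient.mk_eq_mk_iff_sub_mem, ← map_sub]
    refine Ideal.mem_map_of_mem _ ?_
    rw [hI', RingHom.mem_ker, map_sub, hp, sub_self]
  have h12 : f₁ = f₂ := Algebra.FormallyUnramified.comp_injective N hN2 hf
  intro b hb
  have hb0 : π b = 0 := (RingHom.mem_ker).mp hb
  have h3 : f₁ b = f₂ b := by rw [h12]
  have h4 : Ideal.Quotient.mk J b = s (π b) := h3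
  rw [hb0, map_zero, Ideal.Quotient.eq_zero_iff_mem] at h4
  exact h4

/-- Local Nakayama form. -/
theorem map_ker_eq_of_local {R : Type u} [CommRing R] [IsLocalRing R] (θ : P₀ →+* B) (π : B →+* D)
    (hsurj : Function.Surjective (π.comp θ)) (hunr : θ.FormallyUnramified)
    (hfg : (RingHom.ker π).FG) (ψ : B →+* R)
    (hψ : (RingHom.ker π).map ψ ≠ ⊤) :
    (RingHom.ker (π.comp θ)).map (ψ.comp θ) = (RingHom.ker π).map ψ := by
  apply le_antisymm
  · rw [← Ideal.map_map]
    apply Ideal.map_mono
    rw [Ideal.map_le_iff_le_comap]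
    intro p hp
    exact hp
  · have h1 := Ideal.map_mono (f := ψ) (ker_le_sq_sup_map θ π hsurj hunr)
    rw [Ideal.map_sup, Ideal.map_pow, Ideal.map_map] at h1
    have hle : (RingHom.ker π).map ψ ≤ (⊥ : Ideal R).jacobson := by
      rw [IsLocalRing.jacobson_eq_maximalIdeal ⊥ bot_ne_top]
      exact IsLocalRing.le_maximalIdeal hψ
    refine Submodule.le_of_le_smul_of_le_jacobson_bot (hfg.map ψ) hle ?_
    rw [smul_eq_mul, ← pow_two, sup_comm]
    exact h1

end L1


section select

variable {P : ∀ (R : Type u) [CommRing R], List R → Prop}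
variable {P₀ B : Type u} [CommRing P₀] [CommRing B]

/-- Select generators in `I₀` and descend the `P`-property along the flat local map
`(P₀)_Q → B_q`. -/
theorem select_descend (hP : DescOK P) (Θ : P₀ →+* B) (hΘ : Θ.Flat) (q : Ideal B) [q.IsPrime]
    (Q : Ideal P₀) [Q.IsPrime] (hQq : Q = q.comap Θ) (I₀ : Ideal P₀)
    (lq : List (Localization.AtPrime q)) (hlq : P _ lq)
    (hI : I₀.map ((algebraMap B (Localization.AtPrime q)).comp Θ) = Ideal.ofList lq)
    (hne : Ideal.ofList lq ≠ ⊤) :
    ∃ f : List P₀, (∀ x ∈ f, x ∈ I₀) ∧ f.length = lq.length ∧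
      P (Localization.AtPrime Q) (f.map (algebraMap P₀ (Localization.AtPrime Q))) ∧
      I₀.map (algebraMap P₀ (Localization.AtPrime Q)) =
        Ideal.ofList (f.map (algebraMap P₀ (Localization.AtPrime Q))) := by
  obtain ⟨f, hfI, hflen, hfgen⟩ := exists_list_of_map _ I₀ lq hI
  have heq1 : Ideal.ofList lq =
      Ideal.ofList (f.map ((algebraMap B (Localization.AtPrime q)).comp Θ)) := by
    rw [hfgen, hI]
  have hlen1 := hP.len _ _ hlq heq1 hne
  rw [List.length_map] at hlen1
  have hlen : f.length = lq.length := le_antisymm hflen hlen1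
  have hPf : P _ (f.map ((algebraMap B (Localization.AtPrime q)).comp Θ)) :=
    hP.swap _ _ hlq heq1 (by rw [List.length_map, hlen])
  obtain ⟨ρ, hρflat, hρsurj, hρ, hρinj⟩ := exists_localHom Θ hΘ q Q hQq
  have hmapρ : ∀ L : List P₀, (L.map (algebraMap P₀ (Localization.AtPrime Q))).map ρ =
      L.map ((algebraMap B (Localization.AtPrime q)).comp Θ) := by
    intro L
    rw [List.map_map]
    apply List.map_congr_left
    intro x _
    exact congrArg (fun χ' : P₀ →+* Localization.AtPrime q => χ' x) hρ
  refine ⟨f, hfI, hlen, hP.desc ρ hρflat hρsurj _ (by rw [hmapρ]; exact hPf), ?_⟩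
  apply hρinj
  rw [Ideal.map_map, hρ, Ideal.map_ofList, hmapρ, hfgen]

end select


section poly

variable {P : ∀ (R : Type u) [CommRing R], List R → Prop}
variable {A D : Type u} [CommRing A] [CommRing D]

/-- the evaluation `A[x] → A` at `a` as a ring map -/
noncomputable abbrev evAt (n : ℕ) (a : Fin n → A) : MvPolynomial (Fin n) A →+* A :=
  (aeval a : MvPolynomial (Fin n) A →ₐ[A] A).toRingHom

theorem evAt_surjective (n : ℕ) (a : Fin n → A) : Function.Surjective (evAt n a) :=
  fun x => ⟨C x, by simp [evAt]⟩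

theorem ker_evAt (n : ℕ) (a : Fin n → A) : RingHom.ker (evAt n a) = Ideal.ofList (xsList n a) :=
  ker_aeval_eq n a

theorem evAt_xs (n : ℕ) (a : Fin n → A) (i : Fin n) : evAt n a (X i - C (a i)) = 0 := by
  simp [evAt]

/-- Exchange in the local ring of the polynomial ring. -/
theorem exchange_loc (hP : DescOK P) (n : ℕ) (a : Fin n → A) (χ : A →+* D) (𝔡 : Ideal D)
    [𝔡.IsPrime] (Q : Ideal (MvPolynomial (Fin n) A)) [Q.IsPrime]
    (hQ : Q = 𝔡.comap (χ.comp (evAt n a)))
    (f : List (MvPolynomial (Fin n) A))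
    (hf : ∀ x ∈ f, x ∈ RingHom.ker (χ.comp (evAt n a)))
    (hPf : P (Localization.AtPrime Q)
      (f.map (algebraMap (MvPolynomial (Fin n) A) (Localization.AtPrime Q))))
    (hI : (RingHom.ker (χ.comp (evAt n a))).map
        (algebraMap (MvPolynomial (Fin n) A) (Localization.AtPrime Q)) =
      Ideal.ofList (f.map (algebraMap (MvPolynomial (Fin n) A) (Localization.AtPrime Q)))) :
    ∃ f' : List (MvPolynomial (Fin n) A),
      (∀ x ∈ f', x ∈ RingHom.ker (χ.comp (evAt n a))) ∧ f'.length + n = f.length ∧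
      P (Localization.AtPrime Q)
        ((xsList n a ++ f').map (algebraMap (MvPolynomial (Fin n) A) (Localization.AtPrime Q))) ∧
      (RingHom.ker (χ.comp (evAt n a))).map
          (algebraMap (MvPolynomial (Fin n) A) (Localization.AtPrime Q)) =
        Ideal.ofList ((xsList n a ++ f').map
          (algebraMap (MvPolynomial (Fin n) A) (Localization.AtPrime Q))) := by
  classical
  have ht : ∀ i : Fin n, (χ.comp (evAt n a)) (X i - C (a i)) = 0 := by
    intro i
    rw [RingHom.comp_apply, evAt_xs, map_zero]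
  have htsle : Ideal.ofList (xsList n a) ≤ RingHom.ker (χ.comp (evAt n a)) := by
    rw [Ideal.ofList, Ideal.span_le]
    intro x hx
    obtain ⟨i, rfl⟩ := (List.mem_ofFn' _ _).mp hx
    exact ht i
  have h0 : (Ideal.ofList (xsList n a)).map
      (algebraMap (MvPolynomial (Fin n) A) (Localization.AtPrime Q)) ≤
      (Ideal.ofList f).map (algebraMap (MvPolynomial (Fin n) A) (Localization.AtPrime Q)) := by
    rw [Ideal.map_ofList _ f, ← hI]
    exact Ideal.map_mono htsle
  obtain ⟨w₀, hw₀, hw₀t⟩ := exists_mul_mem (Ideal.ofList (xsList n a)) (ofList_fg _) Q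
    (Ideal.ofList f) h0
  have hw₀' : (χ.comp (evAt n a)) w₀ ∉ 𝔡 := by
    intro hmem
    apply hw₀
    rw [hQ]
    exact hmem
  obtain ⟨f', w, hf', hlen, hw, hgen⟩ := exchange (A := A) (χ.comp (evAt n a)) 𝔡 f
    (fun x hx => hf x hx) w₀ hw₀' n (fun i => pderiv i) (fun i => X i - C (a i)) ht
    (by
      intro i j
      rw [map_sub, pderiv_C, sub_zero, pderiv_X, Pi.single_apply]
      by_cases h : i = j
      · rw [if_pos h, if_pos h.symm]; exact map_one _
      · rw [if_neg h, if_neg (fun h' => h h'.symm)]; exact map_zero _)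
    (fun i => hw₀t _ (Ideal.subset_span ((List.mem_ofFn' _ _).mpr ⟨i, rfl⟩)))
  have hw' : w ∉ Q := by
    intro hmem
    apply hw
    rw [hQ] at hmem
    exact hmem
  have hwu : IsUnit (algebraMap (MvPolynomial (Fin n) A) (Localization.AtPrime Q) w) :=
    IsLocalization.map_units (Localization.AtPrime Q) (⟨w, hw'⟩ : Q.primeCompl)
  have hgen' : ∀ x ∈ Ideal.ofList f, w * x ∈ Ideal.ofList (xsList n a ++ f') := hgen
  have hmem' : ∀ x ∈ xsList n a ++ f', x ∈ RingHom.ker (χ.comp (evAt n a)) := by
    intro x hx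
    rcases List.mem_append.mp hx with h | h
    · exact htsle (Ideal.subset_span h)
    · exact hf' x h
  have hE : Ideal.ofList (f.map (algebraMap (MvPolynomial (Fin n) A) (Localization.AtPrime Q))) =
      Ideal.ofList ((xsList n a ++ f').map
        (algebraMap (MvPolynomial (Fin n) A) (Localization.AtPrime Q))) := by
    apply le_antisymm
    · rw [← Ideal.map_ofList, ← Ideal.map_ofList, Ideal.map_le_iff_le_comap]
      intro x hx
      rw [Ideal.mem_comap]
      have h1 := Ideal.mem_map_of_mem
        (algebraMap (MvPolynomial (Fin n) A) (Localization.AtPrime Q)) (hgen' x hx)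
      rw [map_mul] at h1
      exact (Ideal.unit_mul_mem_iff_mem _ hwu).mp h1
    · rw [← hI, ← Ideal.map_ofList]
      exact Ideal.map_mono (ofList_le _ _ hmem')
  refine ⟨f', hf', hlen, ?_, by rw [hI, hE]⟩
  refine hP.swap _ _ hPf hE ?_
  rw [List.length_map, List.length_map, List.length_append, xsList, List.length_ofFn]
  omega

/-- Dividing by the `X_i - a_i` in the local ring. -/
theorem quot_loc (hP : DescOK P) (hQ : QuotOK P) (n : ℕ) (a : Fin n → A) (p : Ideal A)
    [p.IsPrime] (f' : List (MvPolynomial (Fin n) A))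
    (hPtf : P (Localization.AtPrime (p.comap (evAt n a)))
      ((xsList n a ++ f').map (algebraMap (MvPolynomial (Fin n) A) _))) :
    P (Localization.AtPrime p) ((f'.map (evAt n a)).map (algebraMap A _)) := by
  have hsurj := RingHom.surjective_localRingHom_of_surjective (evAt n a) (evAt_surjective n a) p
  have hcomp : (Localization.localRingHom (p.comap (evAt n a)) p (evAt n a) rfl).comp
      (algebraMap (MvPolynomial (Fin n) A) (Localization.AtPrime (p.comap (evAt n a)))) =
      (algebraMap A (Localization.AtPrime p)).comp (evAt n a) := by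
    exact RingHom.ext fun x => Localization.localRingHom_to_map _ _ _ rfl x
  have hker := Groth.Agent.H39.RegSpread2.ker_eq_map_ker_of_localization (evAt n a)
    (evAt_surjective n a) (p.comap (evAt n a)) p rfl
    (S := Localization.AtPrime (p.comap (evAt n a))) (T := Localization.AtPrime p)
    (Localization.localRingHom (p.comap (evAt n a)) p (evAt n a) rfl) hcomp
  rw [ker_evAt, Ideal.map_ofList] at hker
  rw [List.map_append] at hPtf
  have h1 := quot_list hP hQ n _ (by rw [List.length_map, xsList, List.length_ofFn]) _ hsurj hker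
    _ hPtf
  rw [List.map_map] at h1 ⊢
  have h2 : (Localization.localRingHom (p.comap (evAt n a)) p (evAt n a) rfl : _ → _) ∘
      (algebraMap (MvPolynomial (Fin n) A) (Localization.AtPrime (p.comap (evAt n a)))) =
      (algebraMap A (Localization.AtPrime p)) ∘ (evAt n a) := by
    funext x
    exact congrArg (fun χ' : MvPolynomial (Fin n) A →+* Localization.AtPrime p => χ' x) hcomp
  rw [← h2]
  exact h1

end poly


section LT

variable {P : ∀ (R : Type u) [CommRing R], List R → Prop}
variable {A B D : Type u} [CommRing A] [CommRing B] [CommRing D]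

/-- The image in `A_p` of an ideal generated in the local ring of `A[x]` by `xs ++ f'`. -/
theorem quot_loc_ideal (n : ℕ) (a : Fin n → A) (p : Ideal A) [p.IsPrime]
    (f' : List (MvPolynomial (Fin n) A)) (I₀ : Ideal (MvPolynomial (Fin n) A))
    (hI₀ : I₀.map (algebraMap (MvPolynomial (Fin n) A)
        (Localization.AtPrime (p.comap (evAt n a)))) =
      Ideal.ofList ((xsList n a ++ f').map (algebraMap (MvPolynomial (Fin n) A) _))) :
    (I₀.map (evAt n a)).map (algebraMap A (Localization.AtPrime p)) =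
      Ideal.ofList ((f'.map (evAt n a)).map (algebraMap A _)) := by
  have hcomp : (Localization.localRingHom (p.comap (evAt n a)) p (evAt n a) rfl).comp
      (algebraMap (MvPolynomial (Fin n) A) (Localization.AtPrime (p.comap (evAt n a)))) =
      (algebraMap A (Localization.AtPrime p)).comp (evAt n a) := by
    exact RingHom.ext fun x => Localization.localRingHom_to_map _ _ _ rfl x
  have hker := Groth.Agent.H39.RegSpread2.ker_eq_map_ker_of_localization (evAt n a)
    (evAt_surjective n a) (p.comap (evAt n a)) p rfl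
    (S := Localization.AtPrime (p.comap (evAt n a))) (T := Localization.AtPrime p)
    (Localization.localRingHom (p.comap (evAt n a)) p (evAt n a) rfl) hcomp
  rw [ker_evAt, Ideal.map_ofList] at hker
  have h2 : ∀ L : List (MvPolynomial (Fin n) A),
      (L.map (algebraMap (MvPolynomial (Fin n) A)
        (Localization.AtPrime (p.comap (evAt n a))))).map
        (Localization.localRingHom (p.comap (evAt n a)) p (evAt n a) rfl) =
      (L.map (evAt n a)).map (algebraMap A (Localization.AtPrime p)) := by
    intro L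
    rw [List.map_map, List.map_map]
    apply List.map_congr_left
    intro x _
    exact congrArg (fun χ' : MvPolynomial (Fin n) A →+* Localization.AtPrime p => χ' x) hcomp
  rw [Ideal.map_map, ← hcomp, ← Ideal.map_map, hI₀, List.map_append, Ideal.ofList_append,
    Ideal.map_sup, ← hker, (Ideal.map_eq_bot_iff_le_ker _).mpr le_rfl, bot_sup_eq,
    Ideal.map_ofList, h2]

theorem local_gen (hP : DescOK P) (hQ : QuotOK P) (n : ℕ)
    (Θ : MvPolynomial (Fin n) A →+* B) (hΘflat : Θ.Flat) (hΘunr : Θ.FormallyUnramified)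
    (π : B →+* D) (a : Fin n → A) (χ : A →+* D) (hχ : Function.Surjective χ)
    (hε : π.comp Θ = χ.comp (evAt n a))
    (l : List B) (hl : P B l) (hker : RingHom.ker π = Ideal.ofList l)
    (𝔡 : Ideal D) [𝔡.IsPrime] :
    ∃ g : List A, (∀ x ∈ g, x ∈ RingHom.ker χ) ∧ g.length + n = l.length ∧
      P (Localization.AtPrime (𝔡.comap χ)) (g.map (algebraMap A _)) ∧
      (RingHom.ker χ).map (algebraMap A (Localization.AtPrime (𝔡.comap χ))) =
        Ideal.ofList (g.map (algebraMap A _)) := by
  have hQq : (𝔡.comap χ).comap (evAt n a) = (𝔡.comap π).comap Θ := by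
    rw [Ideal.comap_comap, Ideal.comap_comap, hε]
  have hlq : P _ (l.map (algebraMap B (Localization.AtPrime (𝔡.comap π)))) :=
    hP.flat _ (flat_algebraMap_of_isLocalization (𝔡.comap π).primeCompl _) l hl
  have hIlq : (RingHom.ker π).map (algebraMap B (Localization.AtPrime (𝔡.comap π))) =
      Ideal.ofList (l.map (algebraMap B (Localization.AtPrime (𝔡.comap π)))) := by
    rw [hker, Ideal.map_ofList]
  have hkerq : RingHom.ker π ≤ 𝔡.comap π := by
    intro b hb
    rw [Ideal.mem_comap, (RingHom.mem_ker).mp hb]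
    exact Ideal.zero_mem _
  have hne : (RingHom.ker π).map (algebraMap B (Localization.AtPrime (𝔡.comap π))) ≠ ⊤ := by
    intro htop
    have h3 : (RingHom.ker π).map (algebraMap B (Localization.AtPrime (𝔡.comap π))) ≤
        IsLocalRing.maximalIdeal (Localization.AtPrime (𝔡.comap π)) := by
      rw [← Localization.AtPrime.map_eq_maximalIdeal]
      exact Ideal.map_mono hkerq
    rw [htop] at h3
    exact (IsLocalRing.maximalIdeal.isMaximal _).ne_top (top_le_iff.mp h3)
  have hεsurj : Function.Surjective (π.comp Θ) := by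
    rw [hε]
    exact hχ.comp (evAt_surjective n a)
  have hfgI : (RingHom.ker π).FG := by rw [hker]; exact ofList_fg l
  have hb := map_ker_eq_of_local Θ π hεsurj hΘunr hfgI _ hne
  rw [hε, hIlq] at hb
  obtain ⟨f, hfI, hflen, hPf, hIf⟩ := select_descend hP Θ hΘflat (𝔡.comap π)
    ((𝔡.comap χ).comap (evAt n a)) hQq (RingHom.ker (χ.comp (evAt n a))) _ hlq hb
    (by rw [← hIlq]; exact hne)
  obtain ⟨f', hf', hlen', hPtf, hItf⟩ := exchange_loc hP n a χ 𝔡 ((𝔡.comap χ).comap (evAt n a))
    (Ideal.comap_comap _ _) f hfI hPf hIf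
  refine ⟨f'.map (evAt n a), ?_, ?_, quot_loc hP hQ n a (𝔡.comap χ) f' hPtf, ?_⟩
  · intro x hx
    obtain ⟨y, hy, rfl⟩ := List.mem_map.mp hx
    exact hf' y hy
  · rw [List.length_map, hlen', hflen, List.length_map]
  · have hJ : RingHom.ker χ = (RingHom.ker (χ.comp (evAt n a))).map (evAt n a) := by
      rw [← RingHom.comap_ker, Ideal.map_comap_of_surjective _ (evAt_surjective n a)]
    rw [hJ]
    exact quot_loc_ideal n a (𝔡.comap χ) f' _ hItf

end LT

end Groth.Agent.H47.RegSmooth
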