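import Mathlib
import Groth.Agent.H47.RegSmooth.Local

/-!
# The chart form: `A[x] → B` étale, `B → D` with kernel a `P`-sequence, `A → D` onto
  ⟹ the kernel of `A → D` is locally generated by `P`-sequences.
-/

set_option autoImplicit false
set_option linter.style.haveILetI false
universe u

namespace Groth.Agent.H47.RegSmooth

open Groth.Agent.H94.RegDescent MvPolynomial

section

variable {P : ∀ (R : Type u) [CommRing R], List R → Prop}
variable {A : Type u} [CommRing A]

/-- If `a₁ J ⊆ (g) ⊆ J` and `g` is a `P`-sequence in all local rings of `D(a₁)`, then `g` is a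
`P`-sequence generating `J` on `D(a₁)`. -/
theorem away_of_forall_atPrime (hP : DescOK P) (J : Ideal A) (g : List A)
    (hg : ∀ x ∈ g, x ∈ J) (a₁ : A) (hG : ∀ x ∈ J, a₁ * x ∈ Ideal.ofList g)
    (h : ∀ (p' : Ideal A) [p'.IsPrime], a₁ ∉ p' →
      P (Localization.AtPrime p') (g.map (algebraMap A _))) :
    P (Localization.Away a₁) (g.map (algebraMap A _)) ∧
      J.map (algebraMap A (Localization.Away a₁)) = Ideal.ofList (g.map (algebraMap A _)) := by
  refine ⟨?_, map_eq_ofList_of_isUnit J g a₁ hg hG _ (IsLocalization.Away.algebraMap_isUnit a₁)⟩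
  apply hP.loc
  intro Q _
  have hflat : (algebraMap A (Localization.Away a₁)).Flat :=
    flat_algebraMap_of_isLocalization (Submonoid.powers a₁) _
  obtain ⟨ρ', hρ'flat, -, hρ', -⟩ := exists_localHom (algebraMap A (Localization.Away a₁))
    hflat Q (Q.comap (algebraMap A (Localization.Away a₁))) rfl
  have hp' : a₁ ∉ Q.comap (algebraMap A (Localization.Away a₁)) := by
    intro hmem
    rw [Ideal.mem_comap] at hmem
    exact (Ideal.IsPrime.ne_top inferInstance) (Ideal.eq_top_of_isUnit_mem _ hmem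
      (IsLocalization.Away.algebraMap_isUnit a₁))
  have h2 := hP.flat ρ' hρ'flat _ (h _ hp')
  rw [List.map_map] at h2 ⊢
  have h3 : (ρ' : _ → _) ∘ (algebraMap A (Localization.AtPrime
      (Q.comap (algebraMap A (Localization.Away a₁))))) =
      (algebraMap (Localization.Away a₁) (Localization.AtPrime Q)) ∘
        (algebraMap A (Localization.Away a₁)) := by
    funext x
    exact congrArg (fun χ : A →+* Localization.AtPrime Q => χ x) hρ'
  rw [← h3]
  exact h2

variable {B D : Type u} [CommRing B] [CommRing D]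

/-- **Chart form.** -/
theorem chart_locGen (hP : DescOK P) (hQ : QuotOK P) (n : ℕ)
    (Θ : MvPolynomial (Fin n) A →+* B) (hΘflat : Θ.Flat) (hΘunr : Θ.FormallyUnramified)
    (π : B →+* D) (a : Fin n → A) (χ : A →+* D) (hχ : Function.Surjective χ)
    (hε : π.comp Θ = χ.comp (evAt n a))
    (l : List B) (hl : P B l) (hker : RingHom.ker π = Ideal.ofList l)
    (hJfg : (RingHom.ker χ).FG) :
    LocGen P (RingHom.ker χ) := by
  have key : ∀ (𝔡 : Ideal D) [𝔡.IsPrime], ∃ h : A, h ∉ 𝔡.comap χ ∧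
      ∃ g : List (Localization.Away h), P _ g ∧
        (RingHom.ker χ).map (algebraMap A (Localization.Away h)) = Ideal.ofList g := by
    intro 𝔡 _
    obtain ⟨g, hgJ, hlen, hPg, hJg⟩ :=
      local_gen hP hQ n Θ hΘflat hΘunr π a χ hχ hε l hl hker 𝔡
    obtain ⟨a₁, ha₁, hG⟩ := exists_mul_mem (RingHom.ker χ) hJfg (𝔡.comap χ) (Ideal.ofList g)
      (by rw [Ideal.map_ofList, hJg])
    have aux : ∀ (𝔡' : Ideal D) [𝔡'.IsPrime] (p' : Ideal A) [p'.IsPrime], p' = 𝔡'.comap χ →
        a₁ ∉ p' → P (Localization.AtPrime p') (g.map (algebraMap A _)) := by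
      intro 𝔡' _ p' _ hp' ha₁p'
      subst hp'
      obtain ⟨g', hg'J, hlen', hPg', hJg'⟩ :=
        local_gen hP hQ n Θ hΘflat hΘunr π a χ hχ hε l hl hker 𝔡'
      have hu : IsUnit (algebraMap A (Localization.AtPrime (𝔡'.comap χ)) a₁) :=
        IsLocalization.map_units (Localization.AtPrime (𝔡'.comap χ))
          (⟨a₁, ha₁p'⟩ : (𝔡'.comap χ).primeCompl)
      have h1 := map_eq_ofList_of_isUnit (RingHom.ker χ) g a₁ hgJ hG _ hu
      refine hP.swap _ _ hPg' (by rw [← hJg', h1]) ?_
      rw [List.length_map, List.length_map]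
      omega
    have hall : ∀ (p' : Ideal A) [p'.IsPrime], a₁ ∉ p' →
        P (Localization.AtPrime p') (g.map (algebraMap A _)) := by
      intro p' _ ha₁p'
      by_cases hJp' : RingHom.ker χ ≤ p'
      · haveI : (p'.map χ).IsPrime := Ideal.map_isPrime_of_surjective hχ hJp'
        refine aux (p'.map χ) p' ?_ ha₁p'
        rw [Ideal.comap_map_of_surjective χ hχ, ← RingHom.ker_eq_comap_bot, sup_eq_left.mpr hJp']
      · obtain ⟨e, he, hep'⟩ := SetLike.not_le_iff_exists.mp hJp'
        apply hP.unit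
        have hu : IsUnit (algebraMap A (Localization.AtPrime p') a₁) :=
          IsLocalization.map_units (Localization.AtPrime p') (⟨a₁, ha₁p'⟩ : p'.primeCompl)
        rw [← map_eq_ofList_of_isUnit (RingHom.ker χ) g a₁ hgJ hG _ hu]
        exact Ideal.eq_top_of_isUnit_mem _ (Ideal.mem_map_of_mem _ he)
          (IsLocalization.map_units (Localization.AtPrime p') (⟨e, hep'⟩ : p'.primeCompl))
    obtain ⟨h1, h2⟩ := away_of_forall_atPrime hP (RingHom.ker χ) g hgJ a₁ hG hall
    exact ⟨a₁, ha₁, g.map (algebraMap A _), h1, h2⟩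
  intro p₀ hp₀
  haveI : (p₀.asIdeal.map χ).IsPrime := Ideal.map_isPrime_of_surjective hχ hp₀
  have hcomap : (p₀.asIdeal.map χ).comap χ = p₀.asIdeal := by
    rw [Ideal.comap_map_of_surjective χ hχ, ← RingHom.ker_eq_comap_bot, sup_eq_left.mpr hp₀]
  obtain ⟨h, hh, g, hPg, hJg⟩ := key (p₀.asIdeal.map χ)
  rw [hcomap] at hh
  exact ⟨h, hh, g, hPg, hJg⟩

end

end Groth.Agent.H47.RegSmooth
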