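import Mathlib
import Groth.Agent.H47.RegSmooth.Chart

/-!
# Smooth `A → B`, `B → D` with kernel a `P`-sequence, `A → D` onto
  ⟹ the kernel of `A → D` is locally generated by `P`-sequences.
-/

set_option autoImplicit false
set_option linter.style.haveILetI false
universe u

namespace Groth.Agent.H47.RegSmooth

open Groth.Agent.H94.RegDescent MvPolynomial

section transfer

variable {P : ∀ (R : Type u) [CommRing R], List R → Prop}
variable {A : Type u} [CommRing A]

/-- local generation by a `P`-sequence near a prime, with any model of the localization. -/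
def LocGenAt (P : ∀ (R : Type u) [CommRing R], List R → Prop) (J : Ideal A) (p : Ideal A) : Prop :=
  ∃ h : A, h ∉ p ∧ ∃ (T : Type u) (_ : CommRing T) (_ : Algebra A T) (_ : IsLocalization.Away h T),
    ∃ g : List T, P T g ∧ J.map (algebraMap A T) = Ideal.ofList g

theorem LocGenAt.std (hP : DescOK P) {J p : Ideal A} (H : LocGenAt P J p) :
    ∃ h : A, h ∉ p ∧ ∃ g : List (Localization.Away h), P _ g ∧
      J.map (algebraMap A (Localization.Away h)) = Ideal.ofList g := by
  obtain ⟨h, hh, T, _, _, _, g, hPg, hJg⟩ := H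
  let e : T ≃ₐ[A] Localization.Away h := IsLocalization.algEquiv (Submonoid.powers h) _ _
  refine ⟨h, hh, g.map e.toRingEquiv.toRingHom,
    hP.flat _ (RingHom.Flat.of_bijective e.bijective) g hPg, ?_⟩
  have h1 : J.map (algebraMap A (Localization.Away h)) =
      (J.map (algebraMap A T)).map e.toRingEquiv.toRingHom := by
    rw [Ideal.map_map]
    congr 1
    ext x
    exact (e.commutes x).symm
  rw [h1, hJg]
  exact Ideal.map_ofList _ g

theorem LocGenAt.of_away (a₀ : A) (A' : Type u) [CommRing A'] [Algebra A A']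
    [IsLocalization.Away a₀ A'] (J : Ideal A) (p' : Ideal A') [p'.IsPrime]
    (H : LocGenAt P (J.map (algebraMap A A')) p') :
    LocGenAt P J (p'.comap (algebraMap A A')) := by
  obtain ⟨h', hh', T, _, _, hloc, g, hPg, hJg⟩ := H
  obtain ⟨⟨h₁, ⟨_, k, rfl⟩⟩, hk⟩ := IsLocalization.surj (Submonoid.powers a₀) h'
  have hk' : h' * algebraMap A A' (a₀ ^ k) = algebraMap A A' h₁ := hk
  have hu : IsUnit (algebraMap A A' (a₀ ^ k)) := by
    rw [map_pow]
    exact (IsLocalization.Away.algebraMap_isUnit a₀).pow k
  letI : Algebra A T := ((algebraMap A' T).comp (algebraMap A A')).toAlgebra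
  haveI : IsScalarTower A A' T := IsScalarTower.of_algebraMap_eq' rfl
  have hassoc : Associated (algebraMap A A' h₁) h' := by
    rw [← hk']
    exact (associated_mul_unit_left h' _ hu)
  haveI : IsLocalization.Away (a₀ * h₁) T :=
    IsLocalization.Away.mul_of_associated (S := A') a₀ h₁ h' hassoc
  refine ⟨a₀ * h₁, ?_, T, inferInstance, inferInstance, inferInstance, g, hPg, ?_⟩
  · intro hmem
    rw [Ideal.mem_comap, map_mul, ← hk'] at hmem
    have h2 : IsUnit (algebraMap A A' a₀) := IsLocalization.Away.algebraMap_isUnit a₀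
    have h3 : h' * algebraMap A A' (a₀ ^ k) ∈ p' := (Ideal.unit_mul_mem_iff_mem _ h2).mp hmem
    exact hh' ((Ideal.mul_unit_mem_iff_mem _ hu).mp h3)
  · rw [← hJg, Ideal.map_map, ← IsScalarTower.algebraMap_eq]

end transfer

section quotchart

variable {A B D : Type u} [CommRing A] [CommRing B] [CommRing D] [Algebra A B]
  (π : B →+* D) (hsurj : Function.Surjective (π.comp (algebraMap A B)))
  (a₀ : A) (g : B) (hπg : π g = π (algebraMap A B a₀) * π (algebraMap A B a₀))
  (A' E' : Type u) [CommRing A'] [CommRing E'] [Algebra A A'] [IsLocalization.Away a₀ A']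
  [Algebra B E'] [IsLocalization.Away g E'] (κ : A' →+* E')
  (hκ : ∀ a, κ (algebraMap A A' a) = algebraMap B E' (algebraMap A B a))

include hsurj hπg hκ in
theorem quot_chart_surjective :
    Function.Surjective
      ((Ideal.Quotient.mk ((RingHom.ker π).map (algebraMap B E'))).comp κ) := by
  intro y
  obtain ⟨x, rfl⟩ := Ideal.Quotient.mk_surjective y
  obtain ⟨⟨b, ⟨_, k, rfl⟩⟩, hbk⟩ := IsLocalization.surj (Submonoid.powers g) x
  have hbk' : x * algebraMap B E' (g ^ k) = algebraMap B E' b := hbk
  obtain ⟨a, ha⟩ := hsurj (π b)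
  have ha' : π (algebraMap A B a) = π b := ha
  obtain ⟨v, hv⟩ := (IsLocalization.Away.algebraMap_isUnit (S := A') a₀).exists_left_inv
  refine ⟨algebraMap A A' a * v ^ (2 * k), ?_⟩
  have h1 : Ideal.Quotient.mk ((RingHom.ker π).map (algebraMap B E')) (algebraMap B E' b) =
      Ideal.Quotient.mk _ (κ (algebraMap A A' a)) := by
    rw [hκ, Ideal.Quotient.mk_eq_mk_iff_sub_mem, ← map_sub]
    apply Ideal.mem_map_of_mem
    rw [RingHom.mem_ker, map_sub, ha', sub_self]
  have h2 : Ideal.Quotient.mk ((RingHom.ker π).map (algebraMap B E')) (algebraMap B E' g) =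
      Ideal.Quotient.mk _ (κ (algebraMap A A' a₀)) ^ 2 := by
    rw [hκ, ← map_pow, ← map_pow, Ideal.Quotient.mk_eq_mk_iff_sub_mem, ← map_sub]
    apply Ideal.mem_map_of_mem
    rw [RingHom.mem_ker, map_sub, hπg, map_pow, pow_two, sub_self]
  have h3 : Ideal.Quotient.mk ((RingHom.ker π).map (algebraMap B E')) (κ v) *
      Ideal.Quotient.mk _ (κ (algebraMap A A' a₀)) = 1 := by
    rw [← map_mul, ← map_mul, hv, map_one, map_one]
  have h4 : Ideal.Quotient.mk ((RingHom.ker π).map (algebraMap B E')) x *
      Ideal.Quotient.mk _ (κ (algebraMap A A' a₀)) ^ (2 * k) =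
      Ideal.Quotient.mk _ (κ (algebraMap A A' a)) := by
    rw [pow_mul, ← h2, ← h1, ← hbk', map_mul, map_pow, map_pow]
  rw [RingHom.comp_apply, map_mul, map_mul, map_pow, map_pow, ← h4]
  calc Ideal.Quotient.mk ((RingHom.ker π).map (algebraMap B E')) x *
        Ideal.Quotient.mk _ (κ (algebraMap A A' a₀)) ^ (2 * k) *
        Ideal.Quotient.mk _ (κ v) ^ (2 * k)
      = Ideal.Quotient.mk _ x * (Ideal.Quotient.mk _ (κ v) *
          Ideal.Quotient.mk _ (κ (algebraMap A A' a₀))) ^ (2 * k) := by ring
    _ = Ideal.Quotient.mk _ x := by rw [h3, one_pow, mul_one]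

include hπg hκ in
theorem quot_chart_ker :
    RingHom.ker ((Ideal.Quotient.mk ((RingHom.ker π).map (algebraMap B E'))).comp κ) =
      (RingHom.ker (π.comp (algebraMap A B))).map (algebraMap A A') := by
  have hu : IsUnit (algebraMap A A' a₀) := IsLocalization.Away.algebraMap_isUnit a₀
  apply le_antisymm
  · intro x hx
    rw [RingHom.mem_ker, RingHom.comp_apply, Ideal.Quotient.eq_zero_iff_mem] at hx
    obtain ⟨⟨a, ⟨_, k, rfl⟩⟩, hak⟩ := IsLocalization.surj (Submonoid.powers a₀) x
    have hak' : x * algebraMap A A' (a₀ ^ k) = algebraMap A A' a := hak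
    have h1 : algebraMap B E' (algebraMap A B a) ∈ (RingHom.ker π).map (algebraMap B E') := by
      rw [← hκ, ← hak', map_mul]
      exact Ideal.mul_mem_right _ _ hx
    obtain ⟨⟨⟨y, hy⟩, ⟨_, m, rfl⟩⟩, hym⟩ :=
      (IsLocalization.mem_map_algebraMap_iff (Submonoid.powers g) E').mp h1
    have hym' : algebraMap B E' (algebraMap A B a) * algebraMap B E' (g ^ m) =
        algebraMap B E' y := hym
    rw [← map_mul] at hym'
    obtain ⟨⟨_, m', rfl⟩, hm'⟩ := (IsLocalization.eq_iff_exists (Submonoid.powers g) E').mp hym'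
    have hm'' : g ^ m' * (algebraMap A B a * g ^ m) = g ^ m' * y := hm'
    have hy0 : π y = 0 := (RingHom.mem_ker).mp hy
    have h2 : π (algebraMap A B (a₀ ^ (2 * (m' + m)) * a)) = 0 := by
      have h3 := congrArg π hm''
      rw [map_mul, map_mul, map_mul, hy0, mul_zero, map_pow, map_pow, hπg] at h3
      rw [map_mul, map_mul, map_pow, map_pow, pow_mul, pow_two, pow_add]
      rw [← h3]
      ring
    have h4 : algebraMap A A' (a₀ ^ (2 * (m' + m))) * algebraMap A A' a ∈
        (RingHom.ker (π.comp (algebraMap A B))).map (algebraMap A A') := by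
      rw [← map_mul]
      exact Ideal.mem_map_of_mem _ h2
    have hu2 : IsUnit (algebraMap A A' (a₀ ^ (2 * (m' + m)))) := by
      rw [map_pow]; exact hu.pow _
    have hu3 : IsUnit (algebraMap A A' (a₀ ^ k)) := by
      rw [map_pow]; exact hu.pow _
    have h5 := (Ideal.unit_mul_mem_iff_mem _ hu2).mp h4
    rw [← hak'] at h5
    exact (Ideal.mul_unit_mem_iff_mem _ hu3).mp h5
  · rw [Ideal.map_le_iff_le_comap]
    intro a ha
    rw [Ideal.mem_comap, RingHom.mem_ker, RingHom.comp_apply, hκ,
      Ideal.Quotient.eq_zero_iff_mem]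
    exact Ideal.mem_map_of_mem _ ha

end quotchart


section chart

attribute [local instance] MvPolynomial.algebraMvPolynomial

/-- An étale-over-polynomial chart of a smooth algebra near a prime containing the kernel of
`π : B → D`, where `A → D` is onto; the base is localized at an element `a₀`. -/
theorem exists_chart_quot (A B : Type u) [CommRing A] [CommRing B] [Algebra A B]
    [Algebra.FinitePresentation A B] {D : Type u} [CommRing D] (π : B →+* D)
    (hsurj : Function.Surjective (π.comp (algebraMap A B)))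
    (𝔭 : Ideal B) [𝔭.IsPrime] (h𝔭 : RingHom.ker π ≤ 𝔭) [Algebra.IsSmoothAt A 𝔭] :
    ∃ (a₀ : A) (g : B), g ∉ 𝔭 ∧ algebraMap A B a₀ ∉ 𝔭 ∧
      π g = π (algebraMap A B a₀) * π (algebraMap A B a₀) ∧
      ∃ (E' : Type u) (_ : CommRing E') (_ : Algebra B E') (_ : IsLocalization.Away g E') (n : ℕ)
        (θ : MvPolynomial (Fin n) (Localization.Away a₀) →+* E'),
        θ.Flat ∧ θ.FormallyUnramified ∧
        ∀ a : A, θ (C (algebraMap A (Localization.Away a₀) a)) =
          algebraMap B E' (algebraMap A B a) := by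
  obtain ⟨f₀, hf₀, n, algPE, tower, hse⟩ :=
    Algebra.IsSmoothAt.exists_isStandardEtale_mvPolynomial (R := A) (p := 𝔭)
  haveI : Algebra.Etale (MvPolynomial (Fin n) A) (Localization.Away f₀) := inferInstance
  obtain ⟨a, ha⟩ := hsurj (π f₀)
  have ha' : π (algebraMap A B a) = π f₀ := ha
  haveI hlocP : IsLocalization.Away (C a : MvPolynomial (Fin n) A)
      (MvPolynomial (Fin n) (Localization.Away a)) := by
    have := MvPolynomial.isLocalization (σ := Fin n) (Submonoid.powers a) (Localization.Away a)
    rwa [Submonoid.map_powers] at this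
  set e₀ : Localization.Away f₀ :=
    algebraMap (MvPolynomial (Fin n) A) (Localization.Away f₀) (C a) with he₀
  have he₀' : e₀ = algebraMap B (Localization.Away f₀) (algebraMap A B a) := by
    rw [he₀, ← MvPolynomial.algebraMap_eq, ← IsScalarTower.algebraMap_apply,
      IsScalarTower.algebraMap_apply A B (Localization.Away f₀)]
  set θ : MvPolynomial (Fin n) (Localization.Away a) →+* Localization.Away e₀ :=
    IsLocalization.Away.map (MvPolynomial (Fin n) (Localization.Away a)) (Localization.Away e₀)
      (algebraMap (MvPolynomial (Fin n) A) (Localization.Away f₀)) (C a) with hθ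
  have hθet : θ.Etale :=
    RingHom.Etale.propertyIsLocal.localizationAwayPreserves
      (algebraMap (MvPolynomial (Fin n) A) (Localization.Away f₀)) (C a)
      (MvPolynomial (Fin n) (Localization.Away a)) (Localization.Away e₀)
      (RingHom.etale_algebraMap.mpr inferInstance)
  obtain ⟨hflat, hunr, -⟩ := RingHom.Etale.iff_flat_and_formallyUnramified.mp hθet
  haveI hlocE' : IsLocalization.Away (f₀ * algebraMap A B a) (Localization.Away e₀) := by
    haveI : IsLocalization.Away (algebraMap B (Localization.Away f₀) (algebraMap A B a))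
        (Localization.Away e₀) := he₀' ▸ (inferInstance : IsLocalization.Away e₀ _)
    exact IsLocalization.Away.mul' (Localization.Away f₀) (Localization.Away e₀) f₀
      (algebraMap A B a)
  have hg𝔭 : f₀ * algebraMap A B a ∉ 𝔭 := by
    intro h
    rcases (inferInstance : 𝔭.IsPrime).mem_or_mem h with h1 | h1
    · exact hf₀ h1
    · have h2 : f₀ - algebraMap A B a ∈ RingHom.ker π := by
        rw [RingHom.mem_ker, map_sub, ha', sub_self]
      have h3 : f₀ = (f₀ - algebraMap A B a) + algebraMap A B a := by ring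
      rw [h3] at hf₀
      exact hf₀ (Ideal.add_mem _ (h𝔭 h2) h1)
  have ha𝔭 : algebraMap A B a ∉ 𝔭 := fun h => hg𝔭 (Ideal.mul_mem_left _ _ h)
  refine ⟨a, f₀ * algebraMap A B a, hg𝔭, ha𝔭, by rw [map_mul, ← ha'], Localization.Away e₀,
    inferInstance, inferInstance, hlocE', n, θ, hflat, hunr, ?_⟩
  intro x₀
  have h1 : (C (algebraMap A (Localization.Away a) x₀) :
      MvPolynomial (Fin n) (Localization.Away a)) =
      algebraMap (MvPolynomial (Fin n) A) (MvPolynomial (Fin n) (Localization.Away a))
        (C x₀) := by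
    rw [MvPolynomial.algebraMap_def, MvPolynomial.map_C]
  rw [h1, hθ, IsLocalization.Away.map, IsLocalization.map_eq,
    IsScalarTower.algebraMap_apply B (Localization.Away f₀) (Localization.Away e₀)]
  congr 1
  rw [← MvPolynomial.algebraMap_eq,
    ← IsScalarTower.algebraMap_apply A (MvPolynomial (Fin n) A) (Localization.Away f₀),
    ← IsScalarTower.algebraMap_apply A B (Localization.Away f₀)]

end chart


section main

variable {P : ∀ (R : Type u) [CommRing R], List R → Prop}
variable {A B D : Type u} [CommRing A] [CommRing B] [CommRing D]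

/-- finite generation of the kernel of `A → D` -/
theorem ker_comp_fg_of_smooth (φ : A →+* B) (hφ : φ.Smooth) (π : B →+* D)
    (hsurj : Function.Surjective (π.comp φ)) (hfg : (RingHom.ker π).FG) :
    (RingHom.ker (π.comp φ)).FG := by
  letI := φ.toAlgebra
  haveI : Algebra.Smooth A B := hφ
  haveI : Algebra.FinitePresentation A B := inferInstance
  letI := (π.comp φ).toAlgebra
  have hπ : Function.Surjective π := fun d => by
    obtain ⟨a, ha⟩ := hsurj d
    exact ⟨φ a, ha⟩
  let πA : B →ₐ[A] D := { π with commutes' := fun a => rfl }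
  haveI : Algebra.FinitePresentation A D :=
    Algebra.FinitePresentation.of_surjective (f := πA) hπ hfg
  exact Algebra.FinitePresentation.ker_fG_of_surjective (Algebra.ofId A D) hsurj

/-- **Ring-level theorem.** If `φ : A → B` is smooth, the kernel of `π : B → D` is generated by
a `P`-sequence and `π ∘ φ` is onto, then the kernel of `π ∘ φ` is locally generated by
`P`-sequences. -/
theorem locGen_ker_comp_of_smooth (hP : DescOK P) (hQ : QuotOK P) (φ : A →+* B) (hφ : φ.Smooth)
    (π : B →+* D) (hsurj : Function.Surjective (π.comp φ)) (l : List B) (hl : P B l)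
    (hker : RingHom.ker π = Ideal.ofList l) :
    LocGen P (RingHom.ker (π.comp φ)) := by
  have hJfg : (RingHom.ker (π.comp φ)).FG :=
    ker_comp_fg_of_smooth φ hφ π hsurj (by rw [hker]; exact ofList_fg l)
  letI := φ.toAlgebra
  haveI : Algebra.Smooth A B := hφ
  haveI : Algebra.FinitePresentation A B := inferInstance
  intro p₀ hp₀
  haveI h𝔡 : (p₀.asIdeal.map (π.comp φ)).IsPrime := Ideal.map_isPrime_of_surjective hsurj hp₀
  have hcomap : (p₀.asIdeal.map (π.comp φ)).comap (π.comp φ) = p₀.asIdeal := by
    rw [Ideal.comap_map_of_surjective _ hsurj, ← RingHom.ker_eq_comap_bot, sup_eq_left.mpr hp₀]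
  have h𝔭 : RingHom.ker π ≤ (p₀.asIdeal.map (π.comp φ)).comap π := by
    intro b hb
    rw [Ideal.mem_comap, (RingHom.mem_ker).mp hb]
    exact Ideal.zero_mem _
  haveI : Algebra.IsSmoothAt A ((p₀.asIdeal.map (π.comp φ)).comap π) := by
    have : (⟨(p₀.asIdeal.map (π.comp φ)).comap π, inferInstance⟩ : PrimeSpectrum B) ∈
        Algebra.smoothLocus A B := by
      rw [Algebra.smoothLocus_eq_univ]
      trivial
    exact this
  obtain ⟨a₀, g, hg, ha₀, hπg, E', _, _, hloc, n, θ, hflat, hunr, hθC⟩ :=
    exists_chart_quot A B π hsurj ((p₀.asIdeal.map (π.comp φ)).comap π) h𝔭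
  have ha₀p₀ : a₀ ∉ p₀.asIdeal := by
    intro hmem
    apply ha₀
    rw [Ideal.mem_comap]
    exact Ideal.mem_map_of_mem (π.comp φ) hmem
  -- the quotient chart
  have hκ : ∀ a, (θ.comp C) (algebraMap A (Localization.Away a₀) a) =
      algebraMap B E' (algebraMap A B a) := hθC
  have hχ'surj := quot_chart_surjective π hsurj a₀ g hπg (Localization.Away a₀) E' (θ.comp C) hκ
  have hχ'ker := quot_chart_ker π a₀ g hπg (Localization.Away a₀) E' (θ.comp C) hκ
  choose a' ha' using fun i : Fin n => hχ'surj
    (Ideal.Quotient.mk ((RingHom.ker π).map (algebraMap B E')) (θ (X i)))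
  have hε : (Ideal.Quotient.mk ((RingHom.ker π).map (algebraMap B E'))).comp θ =
      ((Ideal.Quotient.mk ((RingHom.ker π).map (algebraMap B E'))).comp (θ.comp C)).comp
        (evAt n a') := by
    apply MvPolynomial.ringHom_ext
    · intro c
      simp [evAt]
    · intro i
      simp only [RingHom.comp_apply, evAt, AlgHom.toRingHom_eq_coe, RingHom.coe_coe, aeval_X]
      exact (ha' i).symm
  have hl' : P E' (l.map (algebraMap B E')) :=
    hP.flat _ (flat_algebraMap_of_isLocalization (Submonoid.powers g) E') l hl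
  have hker' : RingHom.ker (Ideal.Quotient.mk ((RingHom.ker π).map (algebraMap B E'))) =
      Ideal.ofList (l.map (algebraMap B E')) := by
    rw [Ideal.mk_ker, hker, Ideal.map_ofList]
  have hJ'fg : (RingHom.ker
      ((Ideal.Quotient.mk ((RingHom.ker π).map (algebraMap B E'))).comp (θ.comp C))).FG := by
    rw [hχ'ker]
    exact hJfg.map _
  have hLG := chart_locGen hP hQ n θ hflat hunr
    (Ideal.Quotient.mk ((RingHom.ker π).map (algebraMap B E'))) a'
    ((Ideal.Quotient.mk ((RingHom.ker π).map (algebraMap B E'))).comp (θ.comp C)) hχ'surj hε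
    _ hl' hker' hJ'fg
  rw [hχ'ker] at hLG
  -- transfer back to `A`
  have hdisj : Disjoint (Submonoid.powers a₀ : Set A) (p₀.asIdeal : Set A) :=
    (Ideal.disjoint_powers_iff_notMem_of_isPrime _).mpr ha₀p₀
  haveI hp' : (p₀.asIdeal.map (algebraMap A (Localization.Away a₀))).IsPrime :=
    IsLocalization.isPrime_of_isPrime_disjoint (Submonoid.powers a₀) _ _ p₀.2 hdisj
  have hp'comap : (p₀.asIdeal.map (algebraMap A (Localization.Away a₀))).comap
      (algebraMap A (Localization.Away a₀)) = p₀.asIdeal :=
    IsLocalization.comap_map_of_isPrime_disjoint (Submonoid.powers a₀) _ p₀.2 hdisj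
  obtain ⟨h', hh', g', hPg', hJg'⟩ :=
    hLG ⟨p₀.asIdeal.map (algebraMap A (Localization.Away a₀)), hp'⟩ (Ideal.map_mono hp₀)
  have hAt : LocGenAt P ((RingHom.ker (π.comp (algebraMap A B))).map
      (algebraMap A (Localization.Away a₀)))
      (p₀.asIdeal.map (algebraMap A (Localization.Away a₀))) :=
    ⟨h', hh', Localization.Away h', inferInstance, inferInstance, inferInstance, g', hPg', hJg'⟩
  have hAt' := LocGenAt.of_away a₀ (Localization.Away a₀) _ _ hAt
  rw [hp'comap] at hAt'
  exact hAt'.std hP

end main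

end Groth.Agent.H47.RegSmooth
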