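import Mathlib
import Groth.Agent.H39.SmoothFactorBwd2
import Groth.Agent.H47.RegSmooth.Smooth

/-!
# `i` a `k`-regular immersion into `X`, `p : X → S` smooth, `i ≫ p` an immersion
  ⟹ `i ≫ p` is a `k`-regular immersion (`k` = Koszul, `H_1`, quasi)
-/

set_option autoImplicit false
set_option linter.style.haveILetI false
universe u

open AlgebraicGeometry CategoryTheory CategoryTheory.Limits
open Groth.Agent.H39 Groth.Agent.H39.SmoothFactorBwd Groth.Agent.H94.RegDescent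

namespace Groth.Agent.H47.RegSmooth

variable {X Z : Scheme.{u}}

/-- If the kernel on an affine chart (over which `i` is a closed immersion) is locally generated
by sequences of kind `k`, then `i` is a `k`-regular immersion at the points of the chart. -/
theorem isRegularImmersionAt_of_locGen (k : RegImm.Kind)
    (hP : DescOK.{u} (fun R _ l => k.Seq R l)) (i : Z ⟶ X) (z : Z) (U : X.Opens)
    (hU : IsAffineOpen U) (hzU : i z ∈ U) [IsClosedImmersion (i ∣_ U)]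
    (hK : LocGen (fun R _ l => k.Seq R l) (RingHom.ker (i.app U).hom)) :
    RegImm.IsRegularImmersionAt k i z := by
  obtain ⟨hU', -⟩ :=
    RegImmStalk3.isAffineOpen_preimage_and_surjective_of_isClosedImmersion_restrict i U hU
  have hle := RegImmStalk3.ker_app_le_primeIdealOf i z U hU hzU hU'
  obtain ⟨g, hg, l, hl, hIl⟩ := hK (hU.primeIdealOf ⟨i z, hzU⟩) hle
  haveI := hU.isLocalization_basicOpen g
  let e : Localization.Away g ≃ₐ[Γ(X, U)] Γ(X, X.basicOpen g) :=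
    IsLocalization.algEquiv (Submonoid.powers g) _ _
  have hle' : X.basicOpen g ≤ U := X.basicOpen_le g
  refine ⟨⟨X.basicOpen g, hU.basicOpen g⟩,
    (SmoothSectionGeom.mem_basicOpen_iff_notMem_primeIdealOf hU hzU g).mpr hg,
    ImmCompChart.isClosedImmersion_restrict_of_le i hle', l.map e.toRingEquiv.toRingHom,
    hP.flat _ (RingHom.Flat.of_bijective e.bijective) l hl, ?_⟩
  rw [ImmCompChart.ker_app_of_le i hle' hU (hU.basicOpen g)]
  have h1 : (RingHom.ker (i.app U).hom).map (X.presheaf.map (homOfLE hle').op).hom =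
      ((RingHom.ker (i.app U).hom).map (algebraMap Γ(X, U) (Localization.Away g))).map
        e.toRingEquiv.toRingHom := by
    rw [Ideal.map_map]
    congr 1
    ext x
    exact (e.commutes x).symm
  rw [h1, hIl]
  exact Ideal.map_ofList _ l

/-- if `i = j ≫ p` is an immersion with `p` smooth and `j` a regular immersion of kind `k`
(a kind with descent and quotient properties), then `i` is a regular immersion of kind `k`. -/
theorem kind_comp_smooth (k : RegImm.Kind) (hP : DescOK.{u} (fun R _ l => k.Seq R l))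
    (hQ : QuotOK.{u} (fun R _ l => k.Seq R l)) {X V V' : Scheme.{u}} (i : X ⟶ V) [IsImmersion i]
    (j : X ⟶ V') (p : V' ⟶ V) [Smooth p] (h : j ≫ p = i)
    (hj : RegImm.IsRegularImmersion k j) :
    RegImm.IsRegularImmersion k i := by
  subst h
  refine ⟨inferInstance, fun x => ?_⟩
  obtain ⟨U', hxU', hcl', rs, hrs, hker'⟩ := hj.2 x
  haveI := hcl'
  have hpj : ∀ y, (j ≫ p) y = p (j y) := fun y => by simp
  -- the chart `U₀` downstairs
  have hx0 : (j ≫ p) x ∈ (j ≫ p).coborderRange := subset_coborder ⟨x, rfl⟩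
  obtain ⟨U₀, hU₀, hxU₀, hU₀le⟩ :=
    (TopologicalSpace.Opens.isBasis_iff_nbhd.mp V.isBasis_affineOpens) hx0
  haveI hcl₀ : IsClosedImmersion ((j ≫ p) ∣_ U₀) :=
    RegImmStalk3.isClosedImmersion_restrict_of_le_coborderRange (j ≫ p) U₀ hU₀le
  -- the chart `U'₁` upstairs
  have hx1 : j x ∈ U'.1 ⊓ p ⁻¹ᵁ U₀ := ⟨hxU', by
    show p (j x) ∈ U₀
    rw [← hpj]; exact hxU₀⟩
  obtain ⟨U'₁, hU'₁, hxU'₁, hU'₁le⟩ :=
    (TopologicalSpace.Opens.isBasis_iff_nbhd.mp V'.isBasis_affineOpens) hx1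
  have hU'₁U' : U'₁ ≤ U'.1 := hU'₁le.trans inf_le_left
  have hU'₁U₀ : U'₁ ≤ p ⁻¹ᵁ U₀ := hU'₁le.trans inf_le_right
  -- shrink downstairs
  obtain ⟨a, hxa, hale⟩ := ImmCompChart.exists_chart_comp (j ≫ p) (𝟙 X) x U₀ hU₀
    (by simpa using hxU₀) (j ⁻¹ᵁ U'₁) (by simpa using hxU'₁)
  have hxa' : (j ≫ p) x ∈ V.basicOpen a := by simpa using hxa
  have hU : IsAffineOpen (V.basicOpen a) := hU₀.basicOpen a
  have hUU₀ : V.basicOpen a ≤ U₀ := V.basicOpen_le a
  have hU'₂ : IsAffineOpen (V'.basicOpen ((p.appLE U₀ U'₁ hU'₁U₀).hom a)) := hU'₁.basicOpen _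
  have hU'₂eq : V'.basicOpen ((p.appLE U₀ U'₁ hU'₁U₀).hom a) = U'₁ ⊓ p ⁻¹ᵁ (V.basicOpen a) :=
    Scheme.basicOpen_appLE p U'₁ U₀ hU'₁U₀ a
  have hU'₂U : V'.basicOpen ((p.appLE U₀ U'₁ hU'₁U₀).hom a) ≤ p ⁻¹ᵁ (V.basicOpen a) :=
    hU'₂eq.le.trans inf_le_right
  have hU'₂U' : V'.basicOpen ((p.appLE U₀ U'₁ hU'₁U₀).hom a) ≤ U'.1 :=
    (V'.basicOpen_le _).trans hU'₁U'
  have hpre : (j ≫ p) ⁻¹ᵁ (V.basicOpen a) =
      j ⁻¹ᵁ (V'.basicOpen ((p.appLE U₀ U'₁ hU'₁U₀).hom a)) := by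
    rw [hU'₂eq]
    ext y
    constructor
    · intro hy
      exact ⟨hale hy, hy⟩
    · rintro ⟨_, hy2⟩
      exact hy2
  -- ring maps
  have hsm : (p.appLE (V.basicOpen a) _ hU'₂U).hom.Smooth :=
    HasRingHomProperty.appLE (P := @Smooth) p inferInstance ⟨V.basicOpen a, hU⟩ ⟨_, hU'₂⟩ hU'₂U
  have hcomp : (j.appLE _ ((j ≫ p) ⁻¹ᵁ (V.basicOpen a)) hpre.le).hom.comp
      (p.appLE (V.basicOpen a) _ hU'₂U).hom = ((j ≫ p).app (V.basicOpen a)).hom := by
    have h1 := Scheme.Hom.appLE_comp_appLE j p (V.basicOpen a) _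
      ((j ≫ p) ⁻¹ᵁ (V.basicOpen a)) hU'₂U hpre.le
    rw [Scheme.Hom.appLE_eq_app] at h1
    rw [← h1]
    rfl
  haveI : IsClosedImmersion ((j ≫ p) ∣_ (V.basicOpen a)) :=
    ImmCompChart.isClosedImmersion_restrict_of_le (j ≫ p) hUU₀
  obtain ⟨-, hsurj⟩ :=
    RegImmStalk3.isAffineOpen_preimage_and_surjective_of_isClosedImmersion_restrict (j ≫ p)
      (V.basicOpen a) hU
  have hkerπ : RingHom.ker (j.appLE _ ((j ≫ p) ⁻¹ᵁ (V.basicOpen a)) hpre.le).hom =
      Ideal.ofList (rs.map (V'.presheaf.map (homOfLE hU'₂U').op).hom) := by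
    rw [ker_appLE_of_eq j _ _ hpre, ImmCompChart.ker_app_of_le j hU'₂U' U'.2 hU'₂, hker',
      Ideal.map_ofList]
  have hK := locGen_ker_comp_of_smooth hP hQ _ hsm
    (j.appLE _ ((j ≫ p) ⁻¹ᵁ (V.basicOpen a)) hpre.le).hom (by rw [hcomp]; exact hsurj)
    (rs.map (V'.presheaf.map (homOfLE hU'₂U').op).hom)
    (hP.flat _ (ImmCompChart.flat_res hU'₂U' U'.2 hU'₂) rs hrs) hkerπ
  rw [hcomp] at hK
  exact isRegularImmersionAt_of_locGen k hP (j ≫ p) x (V.basicOpen a) hU hxa' hK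

/-- **S8897 core**, kinds `H_1` and quasi. -/
theorem h1_comp_smooth {X V V' : Scheme.{u}} (i : X ⟶ V) [IsImmersion i]
    (j : X ⟶ V') (p : V' ⟶ V) [Smooth p] (h : j ≫ p = i)
    (hj : RegImm.IsRegularImmersion .h1 j) : RegImm.IsRegularImmersion .h1 i :=
  kind_comp_smooth .h1 descOK_h1 quotOK_h1 i j p h hj

theorem quasi_comp_smooth {X V V' : Scheme.{u}} (i : X ⟶ V) [IsImmersion i]
    (j : X ⟶ V') (p : V' ⟶ V) [Smooth p] (h : j ≫ p = i)
    (hj : RegImm.IsRegularImmersion .quasi j) : RegImm.IsRegularImmersion .quasi i :=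
  kind_comp_smooth .quasi descOK_quasi quotOK_quasi i j p h hj

end Groth.Agent.H47.RegSmooth
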